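import Cfsg.Agent.Lib.H28.O73M.Cert.StepsA
import Cfsg.Agent.Lib.H28.O73M.Cert.StepsB
import Cfsg.Agent.Lib.H28.O73M.Cert.StepsC
import Cfsg.Agent.Lib.H28.O73M.Cert.StepsD
import Cfsg.Agent.Lib.H28.O73M.Cert.StepsE
import Cfsg.Agent.Lib.H28.O73M.Cert.StepsF
import Cfsg.Agent.Lib.H28.O73M.Cert.StepsG
import Cfsg.Agent.Lib.H28.O73M.Cert.StepsH
import Cfsg.Agent.Lib.H28.O73M.Cert.StepsI

set_option autoImplicit false
set_option maxRecDepth 100000

/-! # Running the certificate: the path words fix the base point (generated) -/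

namespace Cfsg.Agent.Lib.H28.O73M.Cert

open Cfsg.Agent.Lib.H17.CosetCert Cfsg.Agent.Lib.H28.CosetCertD Cfsg.Agent.Lib.H28.O73M

variable {G Q : Type*} [Group G] [MulAction G Q] (γ : ℕ → G) (q0 : Q)

theorem run (hOK : WordsOK γ q0 words) : Inv F 36 γ q0 81922 2615 := by
  have h0 := inv_zero F 36 γ q0
  have h1 := checkSteps_soundD F 36 16777216 γ q0 words hOK steps0 0 1 266 h0 chk0
  rw [len0] at h1
  have h2 := checkSteps_soundD F 36 16777216 γ q0 words hOK steps1 2000 266 540 h1 chk1
  rw [len1] at h2
  have h3 := checkSteps_soundD F 36 16777216 γ q0 words hOK steps2 4000 540 768 h2 chk2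
  rw [len2] at h3
  have h4 := checkSteps_soundD F 36 16777216 γ q0 words hOK steps3 6000 768 891 h3 chk3
  rw [len3] at h4
  have h5 := checkSteps_soundD F 36 16777216 γ q0 words hOK steps4 8000 891 891 h4 chk4
  rw [len4] at h5
  have h6 := checkSteps_soundD F 36 16777216 γ q0 words hOK steps5 10000 891 949 h5 chk5
  rw [len5] at h6
  have h7 := checkSteps_soundD F 36 16777216 γ q0 words hOK steps6 12000 949 1042 h6 chk6
  rw [len6] at h7
  have h8 := checkSteps_soundD F 36 16777216 γ q0 words hOK steps7 14000 1042 1132 h7 chk7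
  rw [len7] at h8
  have h9 := checkSteps_soundD F 36 16777216 γ q0 words hOK steps8 16000 1132 1224 h8 chk8
  rw [len8] at h9
  have h10 := checkSteps_soundD F 36 16777216 γ q0 words hOK steps9 18000 1224 1308 h9 chk9
  rw [len9] at h10
  have h11 := checkSteps_soundD F 36 16777216 γ q0 words hOK steps10 20000 1308 1383 h10 chk10
  rw [len10] at h11
  have h12 := checkSteps_soundD F 36 16777216 γ q0 words hOK steps11 22000 1383 1449 h11 chk11
  rw [len11] at h12
  have h13 := checkSteps_soundD F 36 16777216 γ q0 words hOK steps12 24000 1449 1512 h12 chk12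
  rw [len12] at h13
  have h14 := checkSteps_soundD F 36 16777216 γ q0 words hOK steps13 26000 1512 1572 h13 chk13
  rw [len13] at h14
  have h15 := checkSteps_soundD F 36 16777216 γ q0 words hOK steps14 28000 1572 1639 h14 chk14
  rw [len14] at h15
  have h16 := checkSteps_soundD F 36 16777216 γ q0 words hOK steps15 30000 1639 1699 h15 chk15
  rw [len15] at h16
  have h17 := checkSteps_soundD F 36 16777216 γ q0 words hOK steps16 32000 1699 1761 h16 chk16
  rw [len16] at h17
  have h18 := checkSteps_soundD F 36 16777216 γ q0 words hOK steps17 34000 1761 1820 h17 chk17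
  rw [len17] at h18
  have h19 := checkSteps_soundD F 36 16777216 γ q0 words hOK steps18 36000 1820 1876 h18 chk18
  rw [len18] at h19
  have h20 := checkSteps_soundD F 36 16777216 γ q0 words hOK steps19 38000 1876 1927 h19 chk19
  rw [len19] at h20
  have h21 := checkSteps_soundD F 36 16777216 γ q0 words hOK steps20 40000 1927 1976 h20 chk20
  rw [len20] at h21
  have h22 := checkSteps_soundD F 36 16777216 γ q0 words hOK steps21 42000 1976 2028 h21 chk21
  rw [len21] at h22
  have h23 := checkSteps_soundD F 36 16777216 γ q0 words hOK steps22 44000 2028 2076 h22 chk22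
  rw [len22] at h23
  have h24 := checkSteps_soundD F 36 16777216 γ q0 words hOK steps23 46000 2076 2122 h23 chk23
  rw [len23] at h24
  have h25 := checkSteps_soundD F 36 16777216 γ q0 words hOK steps24 48000 2122 2165 h24 chk24
  rw [len24] at h25
  have h26 := checkSteps_soundD F 36 16777216 γ q0 words hOK steps25 50000 2165 2207 h25 chk25
  rw [len25] at h26
  have h27 := checkSteps_soundD F 36 16777216 γ q0 words hOK steps26 52000 2207 2249 h26 chk26
  rw [len26] at h27
  have h28 := checkSteps_soundD F 36 16777216 γ q0 words hOK steps27 54000 2249 2291 h27 chk27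
  rw [len27] at h28
  have h29 := checkSteps_soundD F 36 16777216 γ q0 words hOK steps28 56000 2291 2331 h28 chk28
  rw [len28] at h29
  have h30 := checkSteps_soundD F 36 16777216 γ q0 words hOK steps29 58000 2331 2370 h29 chk29
  rw [len29] at h30
  have h31 := checkSteps_soundD F 36 16777216 γ q0 words hOK steps30 60000 2370 2407 h30 chk30
  rw [len30] at h31
  have h32 := checkSteps_soundD F 36 16777216 γ q0 words hOK steps31 62000 2407 2443 h31 chk31
  rw [len31] at h32
  have h33 := checkSteps_soundD F 36 16777216 γ q0 words hOK steps32 64000 2443 2479 h32 chk32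
  rw [len32] at h33
  have h34 := checkSteps_soundD F 36 16777216 γ q0 words hOK steps33 66000 2479 2512 h33 chk33
  rw [len33] at h34
  have h35 := checkSteps_soundD F 36 16777216 γ q0 words hOK steps34 68000 2512 2546 h34 chk34
  rw [len34] at h35
  have h36 := checkSteps_soundD F 36 16777216 γ q0 words hOK steps35 70000 2546 2579 h35 chk35
  rw [len35] at h36
  have h37 := checkSteps_soundD F 36 16777216 γ q0 words hOK steps36 72000 2579 2610 h36 chk36
  rw [len36] at h37
  have h38 := checkSteps_soundD F 36 16777216 γ q0 words hOK steps37 74000 2610 2615 h37 chk37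
  rw [len37] at h38
  have h39 := checkSteps_soundD F 36 16777216 γ q0 words hOK steps38 76000 2615 2615 h38 chk38
  rw [len38] at h39
  have h40 := checkSteps_soundD F 36 16777216 γ q0 words hOK steps39 78000 2615 2615 h39 chk39
  rw [len39] at h40
  have h41 := checkSteps_soundD F 36 16777216 γ q0 words hOK steps40 80000 2615 2615 h40 chk40
  rw [len40] at h41
  exact h41

end Cfsg.Agent.Lib.H28.O73M.Cert
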